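import Mathlib.Algebra.Homology.DerivedCategory.Ext.Map
import Mathlib.Algebra.Homology.DerivedCategory.Ext.ExactSequences
import Mathlib.Algebra.Homology.DerivedCategory.Ext.EnoughInjectives
import Mathlib.Algebra.Homology.ShortComplex.ShortExact

/-!
# Naturality of the action of exact functors on `Ext`
-/

universe w w' v v' v'' u u' u''

open CategoryTheory CategoryTheory.Limits Abelian

namespace Groth.Agent.H9ExtNat

variable {C : Type u} [Category.{v} C] [Abelian C] [HasExt.{w} C] [EnoughInjectives C]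
  {D : Type u'} [Category.{v'} D] [Abelian D] [HasExt.{w'} D]

omit [EnoughInjectives C] in
theorem exists_eq_comp_extClass [EnoughInjectives C] {X Y : C} {n : ℕ} (α : Ext X Y (n + 1)) :
    ∃ (S : ShortComplex C) (hS : S.ShortExact) (e : S.X₁ = Y) (β : Ext X S.X₃ n),
      Injective S.X₂ ∧ β.comp hS.extClass rfl = e ▸ α := by
  let p := Classical.arbitrary (InjectivePresentation Y)
  let S : ShortComplex C := ShortComplex.mk p.f (cokernel.π p.f) (cokernel.condition _)
  have hS : S.ShortExact :=
    { exact := ShortComplex.exact_of_g_is_cokernel S (cokernelIsCokernel p.f)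
      mono_f := p.mono
      epi_g := inferInstanceAs (Epi (cokernel.π p.f)) }
  obtain ⟨β, hβ⟩ := Ext.covariant_sequence_exact₁ X hS α (Ext.eq_zero_of_injective _) rfl
  exact ⟨S, hS, rfl, β, p.injective, hβ⟩

/-- A natural transformation commutes with the maps induced on `Ext`. -/
theorem mapExt_natural {F G : C ⥤ D} [F.Additive] [G.Additive] [PreservesFiniteLimits F]
    [PreservesFiniteColimits F] [PreservesFiniteLimits G] [PreservesFiniteColimits G] (θ : F ⟶ G)
    {X Y : C} {n : ℕ} (α : Ext X Y n) :
    (α.mapExactFunctor F).comp (Ext.mk₀ (θ.app Y)) (add_zero n) =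
      (Ext.mk₀ (θ.app X)).comp (α.mapExactFunctor G) (zero_add n) := by
  induction n generalizing Y with
  | zero =>
    obtain ⟨f, rfl⟩ := (Ext.mk₀_bijective X Y).2 α
    simp only [Ext.mapExactFunctor_mk₀, Ext.mk₀_comp_mk₀, θ.naturality]
  | succ n ih =>
    obtain ⟨S, hS, rfl, β, -, hβ⟩ := exists_eq_comp_extClass α
    have hβ' : β.comp hS.extClass rfl = α := hβ
    let f : S.map F ⟶ S.map G := S.mapNatTrans θ
    have hn := ShortComplex.ShortExact.extClass_naturality (hS.map_of_exact F) (hS.map_of_exact G) f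
    rw [← hβ', Ext.mapExactFunctor_comp, Ext.mapExactFunctor_comp, Ext.mapExactFunctor_extClass,
      Ext.mapExactFunctor_extClass, Ext.comp_assoc_of_third_deg_zero]
    refine (congrArg (fun e => (β.mapExactFunctor F).comp e rfl) hn).trans ?_
    refine (Ext.comp_assoc_of_second_deg_zero _ _ _ _).symm.trans ?_
    refine (congrArg (fun e => Ext.comp e (hS.map_of_exact G).extClass rfl) (ih β)).trans ?_
    exact Ext.comp_assoc _ _ _ (zero_add n) rfl (by omega)

variable {E : Type u''} [Category.{v''} E] [Abelian E] [HasExt.{w} E]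

/-- A natural transformation from a composite to the identity commutes with `Ext`. -/
theorem mapExt_mapExt_natural (P : C ⥤ D) (L : D ⥤ C) [P.Additive] [L.Additive] [PreservesFiniteLimits P]
    [PreservesFiniteColimits P] [PreservesFiniteLimits L] [PreservesFiniteColimits L]
    (θ : P ⋙ L ⟶ 𝟭 C) {X Y : C} {n : ℕ} (α : Ext X Y n) :
    ((α.mapExactFunctor P).mapExactFunctor L).comp (Ext.mk₀ (θ.app Y)) (add_zero n) =
      (Ext.mk₀ (θ.app X)).comp α (zero_add n) := by
  induction n generalizing Y with
  | zero =>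
    obtain ⟨f, rfl⟩ := (Ext.mk₀_bijective X Y).2 α
    simp only [Ext.mapExactFunctor_mk₀, Ext.mk₀_comp_mk₀]
    exact congrArg Ext.mk₀ (θ.naturality f)
  | succ n ih =>
    obtain ⟨S, hS, rfl, β, -, hβ⟩ := exists_eq_comp_extClass α
    have hβ' : β.comp hS.extClass rfl = α := hβ
    let f : (S.map P).map L ⟶ S :=
      { τ₁ := θ.app S.X₁, τ₂ := θ.app S.X₂, τ₃ := θ.app S.X₃
        comm₁₂ := (θ.naturality S.f).symm
        comm₂₃ := (θ.naturality S.g).symm }
    have hn := ShortComplex.ShortExact.extClass_naturality ((hS.map_of_exact P).map_of_exact L) hS f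
    rw [← hβ', Ext.mapExactFunctor_comp, Ext.mapExactFunctor_comp, Ext.mapExactFunctor_extClass]
    erw [Ext.mapExactFunctor_extClass]
    refine (Ext.comp_assoc_of_third_deg_zero _ _ _ _).trans ?_
    refine (congrArg (fun e => ((β.mapExactFunctor P).mapExactFunctor L).comp e rfl) hn).trans ?_
    refine (Ext.comp_assoc_of_second_deg_zero _ _ _ _).symm.trans ?_
    refine (congrArg (fun e => Ext.comp e hS.extClass rfl) (ih β)).trans ?_
    exact Ext.comp_assoc _ _ _ (zero_add n) rfl (by omega)

variable {E' : Type u''} [Category.{v''} E'] [Abelian E'] [HasExt.{w} E']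

/-- A natural transformation from a composite commutes with `Ext`. -/
theorem mapExt_comp_natural (P : C ⥤ D) (Q : D ⥤ E') (R : C ⥤ E') [P.Additive] [Q.Additive] [R.Additive]
    [PreservesFiniteLimits P] [PreservesFiniteColimits P] [PreservesFiniteLimits Q] [PreservesFiniteColimits Q]
    [PreservesFiniteLimits R] [PreservesFiniteColimits R] (θ : P ⋙ Q ⟶ R) {X Y : C} {n : ℕ} (α : Ext X Y n) :
    ((α.mapExactFunctor P).mapExactFunctor Q).comp (Ext.mk₀ (θ.app Y)) (add_zero n) =
      (Ext.mk₀ (θ.app X)).comp (α.mapExactFunctor R) (zero_add n) := by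
  induction n generalizing Y with
  | zero =>
    obtain ⟨f, rfl⟩ := (Ext.mk₀_bijective X Y).2 α
    simp only [Ext.mapExactFunctor_mk₀, Ext.mk₀_comp_mk₀]
    exact congrArg Ext.mk₀ (θ.naturality f)
  | succ n ih =>
    obtain ⟨S, hS, rfl, β, -, hβ⟩ := exists_eq_comp_extClass α
    have hβ' : β.comp hS.extClass rfl = α := hβ
    let f : (S.map P).map Q ⟶ S.map R :=
      { τ₁ := θ.app S.X₁, τ₂ := θ.app S.X₂, τ₃ := θ.app S.X₃
        comm₁₂ := (θ.naturality S.f).symm
        comm₂₃ := (θ.naturality S.g).symm }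
    have hn := ShortComplex.ShortExact.extClass_naturality ((hS.map_of_exact P).map_of_exact Q)
      (hS.map_of_exact R) f
    rw [← hβ', Ext.mapExactFunctor_comp, Ext.mapExactFunctor_comp, Ext.mapExactFunctor_comp,
      Ext.mapExactFunctor_extClass, Ext.mapExactFunctor_extClass]
    erw [Ext.mapExactFunctor_extClass]
    refine (Ext.comp_assoc_of_third_deg_zero _ _ _ _).trans ?_
    refine (congrArg (fun e => ((β.mapExactFunctor P).mapExactFunctor Q).comp e rfl) hn).trans ?_
    refine (Ext.comp_assoc_of_second_deg_zero _ _ _ _).symm.trans ?_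
    refine (congrArg (fun e => Ext.comp e (hS.map_of_exact R).extClass rfl) (ih β)).trans ?_
    exact Ext.comp_assoc _ _ _ (zero_add n) rfl (by omega)

end Groth.Agent.H9ExtNat
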